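import Groth.Agent.EtSmAcycLib.Nearby
import Groth.Agent.EtSmAcycLib.LineHens
import Groth.Agent.EtProperH0Lib.ShFibres
import Groth.Prelude.Def_Hens2
import Groth.Agent.AbSchLib.Flat
import Groth.Agent.AicVanishLib.Main

/-!
# Nearby fibres at smooth points
-/

set_option autoImplicit false
set_option linter.all false
set_option backward.isDefEq.respectTransparency false
set_option backward.isDefEq.respectTransparency.types false
set_option synthInstance.maxHeartbeats 400000
set_option maxHeartbeats 1000000

universe u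

open CategoryTheory CategoryTheory.Limits AlgebraicGeometry Opposite IsLocalRing
open Groth.Agent
open scoped TensorProduct

noncomputable section

namespace NearbyPtLib

variable {V : Type u} [CommRing V] [HenselianLocalRing V] [IsSepClosed (ResidueField V)]

/-- A strictly henselian ring is a strict henselisation at the closed point of its spectrum. -/
theorem exists_self_at (s : Spec (CommRingCat.of V)) (hs : s = closedPoint V) :
    ∃ (a : (Spec (CommRingCat.of V)).presheaf.stalk s →+* V) (_ : IsLocalHom a),
      (letI := a.toAlgebra; Hensel.IsStrictHenselization ((Spec (CommRingCat.of V)).presheaf.stalk s) V) ∧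
      Spec.map (CommRingCat.ofHom a) ≫ (Spec (CommRingCat.of V)).fromSpecStalk s = 𝟙 _ := by
  subst hs
  obtain ⟨h1, h2⟩ := EtSmAcycLib.isStrictHenselization_stalkClosedPointTo (𝟙 (Spec (CommRingCat.of V)))
  exact ⟨(Scheme.stalkClosedPointTo (𝟙 (Spec (CommRingCat.of V)))).hom, h1, h2,
    Scheme.Spec_stalkClosedPointTo_fromSpecStalk (𝟙 (Spec (CommRingCat.of V)))⟩

/-- Nearby fibres of smooth morphisms are connected and acyclic. -/
theorem smooth_nearby {X : Scheme.{u}} (f : X ⟶ Spec (CommRingCat.of V)) [Smooth f] (x : X)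
    (hx : f.base x = closedPoint V) (R : Type u) [CommRing R] [IsLocalRing R] [Algebra (X.presheaf.stalk x) R]
    [IsLocalHom (algebraMap (X.presheaf.stalk x) R)] [Hensel.IsStrictHenselization (X.presheaf.stalk x) R]
    (Ω : Type u) [Field Ω] [IsSepClosed Ω] [Algebra V Ω] (m : ℕ) (hm : (m : ResidueField V) ≠ 0) :
    ConnectedSpace ↥(pullback (Hens2.specOf X x R ≫ f) (Spec.map (CommRingCat.ofHom (algebraMap V Ω)))) ∧
      ∀ i : ℕ, 0 < i → Subsingleton (EtCoh.H (pullback (Hens2.specOf X x R ≫ f) (Spec.map (CommRingCat.ofHom (algebraMap V Ω))))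
        (EtCoh.const _ (ZMod m)) i) := by
  obtain ⟨φ, hφ⟩ := Spec.map_surjective (Hens2.specOf X x R ≫ f)
  letI : Algebra V R := φ.hom.toAlgebra
  obtain ⟨a, ha, hS, hid⟩ := exists_self_at (f.base x) hx
  letI : Algebra ((Spec (CommRingCat.of V)).presheaf.stalk (f.base x)) V := a.toAlgebra
  haveI : IsLocalHom (algebraMap ((Spec (CommRingCat.of V)).presheaf.stalk (f.base x)) V) := ha
  haveI := hS
  have hcl : Spec.map φ (closedPoint R) = closedPoint V := by
    haveI : IsLocalHom (CommRingCat.ofHom (algebraMap (X.presheaf.stalk x) R)).hom :=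
      inferInstanceAs (IsLocalHom (algebraMap (X.presheaf.stalk x) R))
    rw [hφ, Scheme.Hom.comp_apply, Scheme.Hom.comp_apply, Spec_closedPoint]
    exact (congrArg f.base (Scheme.fromSpecStalk_closedPoint (x := x))).trans hx
  haveI : IsLocalHom (algebraMap V R) := ((IsLocalRing.local_hom_TFAE φ.hom).out 4 0).1
    (congrArg PrimeSpectrum.asIdeal hcl)
  have hc : (algebraMap V R).comp (algebraMap ((Spec (CommRingCat.of V)).presheaf.stalk (f.base x)) V) =
      (algebraMap (X.presheaf.stalk x) R).comp (f.stalkMap x).hom := by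
    have h1 : CommRingCat.ofHom a ≫ φ = f.stalkMap x ≫ CommRingCat.ofHom (algebraMap (X.presheaf.stalk x) R) := by
      refine Spec.map_injective ((cancel_mono ((Spec (CommRingCat.of V)).fromSpecStalk (f.base x))).1 ?_)
      rw [Spec.map_comp, Spec.map_comp, Category.assoc, hid, Category.comp_id, hφ]
      simp only [Category.assoc]
      rw [Scheme.SpecMap_stalkMap_fromSpecStalk]
    exact congrArg CommRingCat.Hom.hom h1
  have hu : IsUnit (m : V) := by
    rwa [← IsLocalRing.residue_ne_zero_iff_isUnit, map_natCast]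
  have hn : (m : X.residueField x) ≠ 0 := by
    refine LocAcycPointLib.natCast_residueField_ne_zero f ?_ x
    have h2 := hu.map (Scheme.ΓSpecIso (CommRingCat.of V)).inv.hom
    rwa [map_natCast] at h2
  let v := Spec.map (CommRingCat.ofHom (algebraMap V Ω))
  let e : pullback (Hens2.specOf X x R ≫ f) v ≅ EtSmAcycLib.gFib V R Ω :=
    pullback.congrHom hφ.symm rfl ≪≫ (EtSmAcycLib.isPullback_gFib V R Ω).flip.isoPullback.symm
  refine ⟨?_, fun i hi => ?_⟩
  · haveI : GeometricallyReduced f := AbSchLib.geometricallyReduced_of_smooth f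
    haveI := EtProperH0Lib.connected_sh_fibre f (Or.inr inferInstance) x V R (algebraMap V R) hc Ω v
    exact (pullback.congrHom (g₁ := v) hφ.symm rfl).hom.homeomorph.connectedSpace_iff.mpr inferInstance
  · obtain ⟨k, rfl⟩ : ∃ k, i = k + 1 := ⟨i - 1, by omega⟩
    have h := EtSmAcycLib.nearby_vanishing f x V R hc Ω m hn k
    exact AicVanishLib.subsingleton_H_of_iso e _ _ h

end NearbyPtLib
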